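import Groth.Agent.Lib.CurveFin32.PicMod
import Groth.Agent.S6545
import Groth.Agent.S15401
import Groth.Agent.Lib.PBC24.CurveVan
import Groth.Agent.Lib.PBC24.Kummer
import Groth.Agent.Lib.PointLim24.Connected
import Groth.Agent.Lib.EtPic3.Basic
import Groth.Agent.Lib.EtAcyc24.IntegralBase
import Groth.Agent.Lib.FieldH25.Primary

/-!
# Cohomology of `ℤ/ℓ` on a smooth proper curve
-/

set_option autoImplicit false
set_option linter.style.haveILetI false
set_option linter.unusedSectionVars false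
set_option backward.isDefEq.respectTransparency.types false
set_option maxHeartbeats 1000000

universe u

open CategoryTheory CategoryTheory.Limits AlgebraicGeometry Opposite CategoryTheory.Abelian

noncomputable section

namespace Groth.Agent.CurveFin32

open Groth.Agent

noncomputable local instance instLawBase (Y : Scheme.{u}) : PicGrp.Law Y := M2.law Y

/-- Degree zero cohomology as sections is natural. -/
theorem H0Sec_comp {Q : Scheme.{u}} {F G : EtCoh.Ab Q} (g : F ⟶ G) (x : EtCoh.H Q F 0) :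
    PointLim24.H0Sec Q G (x.comp (Ext.mk₀ g) (add_zero 0)) =
      g.hom.app (op (EtCoh.top Q)) (PointLim24.H0Sec Q F x) := by
  obtain ⟨φ, rfl⟩ := (Ext.mk₀_bijective _ _).2 x
  rw [Ext.mk₀_comp_mk₀]
  show AddCommGrpCat.uliftZMultiplesAddEquiv.{u + 1} _ ((EtCore.constAdj Q).homEquiv _ _
      ((Equiv.ofBijective _ (Ext.mk₀_bijective _ _)).symm (Ext.mk₀ (φ ≫ g)))) =
    g.hom.app (op (EtCoh.top Q)) (AddCommGrpCat.uliftZMultiplesAddEquiv.{u + 1} _ ((EtCore.constAdj Q).homEquiv _ _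
      ((Equiv.ofBijective _ (Ext.mk₀_bijective _ _)).symm (Ext.mk₀ φ))))
  rw [Equiv.ofBijective_symm_apply_apply, Equiv.ofBijective_symm_apply_apply, Adjunction.homEquiv_naturality_right]
  rfl

theorem powMap_app (Q : Scheme.{u}) (n : ℕ) (V : Q.Etale) (t : (EtCoh.Gm Q).obj.obj (op V)) :
    (EtCoh.powMap Q n).hom.app (op V) t = n • t := by
  induction n with
  | zero =>
    rw [EtCoh.powMap, zero_smul, zero_smul]
    rfl
  | succ n ih =>
    rw [EtCoh.powMap, succ_nsmul, succ_nsmul]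
    show (n • 𝟙 (EtCoh.Gm Q)).hom.app (op V) t + t = _
    rw [show (n • 𝟙 (EtCoh.Gm Q)).hom.app (op V) t = n • t from ih]

variable {k : Type u} [Field k] [IsAlgClosed k] {C : Scheme.{u}} (f : C ⟶ Spec (CommRingCat.of k))
  [IsProper f] [Smooth f] [IsIntegral C] (hdim : topologicalKrullDim C = 1) {ℓ : ℕ} (hℓ : ℓ.Prime)
  (hk : (ℓ : k) ≠ 0)

omit [Smooth f] in
include f in
/-- The global functions are the constants, so global units are `ℓ`-th powers, with finitely many roots of one. -/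
theorem units_props (hℓ : 0 < ℓ) :
    (∀ u : Γ(C, ⊤)ˣ, ∃ v : Γ(C, ⊤)ˣ, v ^ ℓ = u) ∧ {u : Γ(C, ⊤)ˣ | u ^ ℓ = 1}.Finite := by
  let F := (Scheme.ΓSpecIso (CommRingCat.of k)).inv ≫ f.appTop
  letI := (isField_of_universallyClosed k f).toField
  have hint : F.hom.IsIntegral := by
    apply RingHom.isIntegral_respectsIso.2 (e := (Scheme.ΓSpecIso _).symm.commRingCatIsoToRingEquiv)
    exact isIntegral_appTop_of_universallyClosed f
  letI := F.hom.toAlgebra
  haveI : Algebra.IsIntegral k Γ(C, ⊤) := ⟨hint⟩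
  have hb : Function.Bijective (algebraMap k Γ(C, ⊤)) := IsAlgClosed.algebraMap_bijective_of_isIntegral
  classical
  refine ⟨fun u => ?_, ?_⟩
  · obtain ⟨a, ha⟩ := hb.2 (u : Γ(C, ⊤))
    obtain ⟨b, hb'⟩ := IsAlgClosed.exists_pow_nat_eq a hℓ
    have hb0 : b ≠ 0 := fun h => u.ne_zero (by rw [← ha, ← hb', h, zero_pow hℓ.ne', map_zero])
    refine ⟨Units.map (algebraMap k Γ(C, ⊤)).toMonoidHom (Units.mk0 b hb0), Units.ext ?_⟩
    show (algebraMap k Γ(C, ⊤) b) ^ ℓ = _
    rw [← map_pow, hb', ha]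
  · refine ((Polynomial.nthRoots ℓ (1 : Γ(C, ⊤))).toFinset.finite_toSet.preimage Units.val_injective.injOn).subset
      fun u hu => ?_
    show (u : Γ(C, ⊤)) ∈ ((Polynomial.nthRoots ℓ (1 : Γ(C, ⊤))).toFinset : Set _)
    rw [Finset.mem_coe, Multiset.mem_toFinset, Polynomial.mem_nthRoots hℓ, ← Units.val_pow_eq_pow_val, hu, Units.val_one]

omit [Smooth f] in
include f in
theorem gm_sections (hℓ : 0 < ℓ) :
    (∀ t : (EtCoh.Gm C).obj.obj (op (EtCoh.top C)), ∃ s, ℓ • s = t) ∧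
      {t : (EtCoh.Gm C).obj.obj (op (EtCoh.top C)) | ℓ • t = 0}.Finite := by
  obtain ⟨hdiv, hroot⟩ := units_props f hℓ
  refine ⟨fun t => ?_, ?_⟩
  · obtain ⟨u, rfl⟩ := EtPic3.ε_surjective (EtCoh.top C) t
    obtain ⟨v, hv⟩ := hdiv (Additive.toMul u : Γ(C, ⊤)ˣ)
    refine ⟨EtPic3.ε (EtCoh.top C) (Additive.ofMul v), ?_⟩
    rw [← map_nsmul]
    exact congrArg _ (congrArg Additive.ofMul hv)
  · refine (hroot.image fun v : Γ(C, ⊤)ˣ => EtPic3.ε (EtCoh.top C) (Additive.ofMul v)).subset fun t ht => ?_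
    obtain ⟨u, rfl⟩ := EtPic3.ε_surjective (EtCoh.top C) t
    refine ⟨(Additive.toMul u : Γ(C, ⊤)ˣ), ?_, rfl⟩
    have h1 : ℓ • u = 0 := EtPic3.ε_injective (EtCoh.top C) (by rw [map_nsmul, map_zero]; exact ht)
    exact congrArg Additive.toMul h1

omit [IsProper f] [Smooth f] [IsIntegral C] in
/-- A power map on the multiplicative group multiplies classes. -/
theorem comp_powMap (n : ℕ) {q : ℕ} (x : EtCoh.H C (EtCoh.Gm C) q) :
    x.comp (Ext.mk₀ (EtCoh.powMap C n)) (add_zero q) = n • x := Dix24.comp_mk₀_nsmul_id n x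

theorem comp_mk₀_eq_zero {A : Type*} [Category A] [Abelian A] [HasExt A] {P Q R S : A} {g : Q ⟶ R} {g' : R ⟶ S}
    (h : g ≫ g' = 0) {n : ℕ} (x : Ext P Q n) :
    (x.comp (Ext.mk₀ g) (add_zero n)).comp (Ext.mk₀ g') (add_zero n) = 0 := by
  rw [Ext.comp_assoc_of_second_deg_zero, Ext.mk₀_comp_mk₀, h, Ext.mk₀_zero, Ext.comp_zero]

theorem comp_mk₀_extClass {A : Type*} [Category A] [Abelian A] [HasExt A] {P : A} {S : ShortComplex A}
    (hS : S.ShortExact) {n m : ℕ} (h : n + 1 = m) (x : Ext P S.X₂ n) :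
    (x.comp (Ext.mk₀ S.g) (add_zero n)).comp hS.extClass h = 0 := by
  rw [Ext.comp_assoc_of_second_deg_zero, hS.comp_extClass, Ext.comp_zero]

include f hdim hℓ hk in
/-- Finiteness for a smooth proper curve, away from the characteristic. -/
theorem finite_H_zmod_smooth (q : ℕ) : Finite (EtCoh.H C (EtCoh.const C (ZMod ℓ)) q) := by
  classical
  letI : C.Over (Spec (CommRingCat.of k)) := ⟨f⟩
  haveI : IsProper (C ↘ Spec (CommRingCat.of k)) := ‹IsProper f›
  haveI : Smooth (C ↘ Spec (CommRingCat.of k)) := ‹Smooth f›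
  haveI : CompactSpace C := QuasiCompact.compactSpace_of_compactSpace f
  haveI : QuasiSeparatedSpace C := quasiSeparatedSpace_of_quasiSeparated f
  obtain ⟨z, hz⟩ := IsAlgClosed.exists_root (Polynomial.cyclotomic ℓ k)
    (Polynomial.degree_cyclotomic_pos ℓ k hℓ.pos).ne'
  let φ : k →+* Γ(C, ⊤) := ((Scheme.ΓSpecIso (CommRingCat.of k)).inv ≫ f.appTop).hom
  have hu : IsUnit (ℓ : Γ(C, ⊤)) := by
    have := (isUnit_iff_ne_zero.2 hk).map φ
    rwa [map_natCast] at this
  let ζ := φ z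
  have hζ : Polynomial.aeval ζ (Polynomial.cyclotomic ℓ ℤ) = 0 := by
    have h : (Polynomial.cyclotomic ℓ Γ(C, ⊤)).eval ζ = 0 := by
      rw [← Polynomial.map_cyclotomic ℓ φ, Polynomial.eval_map, Polynomial.eval₂_hom, hz.eq_zero, map_zero]
    rw [← Polynomial.map_cyclotomic_int ℓ, Polynomial.eval_map] at h
    rw [Polynomial.aeval_def, algebraMap_int_eq]
    exact h
  let S := PBC24.kummerSeq hℓ.one_le ζ hζ
  have hS := PBC24.kummerSeq_shortExact hℓ.one_le hu ζ hζ
  obtain ⟨hdiv, htors⟩ := gm_sections f hℓ.pos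
  obtain ⟨e⟩ := S15401.result C
  match q with
  | 0 =>
    haveI : Mono S.f := hS.mono_f
    haveI := htors.to_subtype
    refine Finite.of_injective (fun x => (⟨S.f.hom.app (op (EtCoh.top C)) (PointLim24.H0Sec _ _ x), ?_⟩ :
      {t : (EtCoh.Gm C).obj.obj (op (EtCoh.top C)) | ℓ • t = 0})) fun a b h => ?_
    · show ℓ • _ = (0 : (EtCoh.Gm C).obj.obj (op (EtCoh.top C)))
      rw [← powMap_app]
      exact congrArg (fun g => g.hom.app (op (EtCoh.top C)) (PointLim24.H0Sec _ _ x)) S.zero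
    · exact (PointLim24.H0Sec _ _).injective (EtPic3.app_injective S.f _ (congrArg Subtype.val h))
  | 1 =>
    have hcard := S6545.result k C hdim ℓ (isUnit_iff_ne_zero.2 hk)
    haveI : Finite {c : PicF.Cl C | ∃ M : C.Modules, PicF.cl M = c ∧ PicF.IsInvertible M ∧
        Nonempty (CohB1.tensorPow M ℓ ≅ Coh.structureModule C)} :=
      Nat.finite_of_card_ne_zero (hcard ▸ (pow_pos hℓ.pos _).ne')
    let g : EtCoh.H C (EtCoh.const C (ZMod ℓ)) 1 → {c : PicF.Cl C | ∃ M : C.Modules, PicF.cl M = c ∧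
        PicF.IsInvertible M ∧ Nonempty (CohB1.tensorPow M ℓ ≅ Coh.structureModule C)} := fun x =>
      ⟨(Additive.toMul (e.symm (x.comp (Ext.mk₀ S.f) (add_zero 1)))).1, by
        obtain ⟨M, hM, hMc⟩ := PicGrp.exists_eq_cls (Additive.toMul (e.symm (x.comp (Ext.mk₀ S.f) (add_zero 1))))
        refine ⟨M, (congrArg Subtype.val hMc).symm, hM,
          (PicGrp.cls_eq_one_iff (M2.isInvertible_tensorPow hM ℓ)).1 ?_⟩
        rw [FGA3.cls_tensorPow hM ℓ, ← hMc, ← toMul_nsmul, ← map_nsmul, ← comp_powMap]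
        refine (congrArg (fun y => Additive.toMul (e.symm y)) (comp_mk₀_eq_zero S.zero x)).trans ?_
        exact congrArg Additive.toMul (map_zero e.symm)⟩
    refine Finite.of_injective g fun a b h => ?_
    have h' : (a - b).comp (Ext.mk₀ S.f) (add_zero 1) = 0 := by
      rw [sub_eq_add_neg, Ext.add_comp, Ext.neg_comp, ← sub_eq_add_neg, sub_eq_zero]
      exact e.symm.injective (Additive.toMul.injective (Subtype.ext (congrArg Subtype.val h :)))
    obtain ⟨w, hw⟩ := Ext.covariant_sequence_exact₁ _ hS _ h' (n₀ := 0) rfl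
    obtain ⟨s, hs⟩ := hdiv (PointLim24.H0Sec _ _ w)
    obtain ⟨w', rfl⟩ := (PointLim24.H0Sec C (EtCoh.Gm C)).surjective s
    have hw' : w'.comp (Ext.mk₀ S.g) (add_zero 0) = w := (PointLim24.H0Sec C (EtCoh.Gm C)).injective (by
      rw [← hs, ← powMap_app]
      exact H0Sec_comp (EtCoh.powMap C ℓ) w')
    rw [← hw'] at hw
    exact sub_eq_zero.1 ((comp_mk₀_extClass hS _ w').symm.trans hw).symm
  | 2 =>
    obtain ⟨T, hT⟩ := exists_finset_pic_mod k hdim hℓ.pos
    refine Finite.of_surjective (fun t : T => ((e (Additive.ofMul t.1) : EtCoh.H C (EtCoh.Gm C) 1)).comp hS.extClass rfl)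
      fun x => ?_
    have h0 : x.comp (Ext.mk₀ S.f) (add_zero 2) = 0 := by
      refine PBC24.eq_zero_of_pow_nsmul_curve f hdim.le hℓ hk le_rfl _ (e := 1) ?_
      rw [pow_one, ← comp_powMap]
      exact comp_mk₀_eq_zero S.zero x
    obtain ⟨c, rfl⟩ := Ext.covariant_sequence_exact₁ _ hS x h0 (n₀ := 1) rfl
    obtain ⟨t, ht, b, hb⟩ := hT (Additive.toMul (e.symm c))
    refine ⟨⟨t, ht⟩, ?_⟩
    have hc : c = e (Additive.ofMul t) + ℓ • e (Additive.ofMul b) := by
      rw [← map_nsmul, ← map_add, ← ofMul_pow, ← ofMul_mul, hb, ofMul_toMul, AddEquiv.apply_symm_apply]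
    show (e (Additive.ofMul t)).comp hS.extClass rfl = _
    rw [hc, ← comp_powMap]
    refine Eq.trans ?_ (Ext.add_comp (X := _) (Y := S.X₃) _ _ _ _).symm
    refine (add_zero _).symm.trans (congrArg _ ?_)
    exact (comp_mk₀_extClass hS _ _).symm
  | q + 3 =>
    haveI := PBC24.subsingleton_H_curve_sepClosed f hdim.le (EtCoh.const C (ZMod ℓ))
      (FieldH25.isTorsion_of_nsmul_id_eq_zero _ hℓ.pos (EtAcyc24.nsmul_id_const C ℓ)) (q := q + 3) (by omega)
    infer_instance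

end Groth.Agent.CurveFin32
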