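import Groth.Agent.Lib.Constr24.PushFinite
import Groth.Agent.Lib.Constr24.NoethObj
import Groth.Agent.Lib.Constr24.Presentation
import Groth.Agent.Lib.EtBCQ24.Mono
import Groth.Agent.Lib.FieldH25.Transfer
import Groth.Agent.S0642

/-!
# Tools for finiteness of cohomology by devissage
-/

set_option autoImplicit false
set_option linter.style.haveILetI false
set_option linter.unusedSectionVars false
set_option backward.isDefEq.respectTransparency.types false

universe u

open CategoryTheory CategoryTheory.Limits AlgebraicGeometry Opposite CategoryTheory.Abelian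

attribute [local instance] Abelian.hasFiniteBiproducts

namespace Groth.Agent.CurveFin32

open Groth.Agent Groth.Agent.EtStalk Groth.Agent.EtAcyc24

variable {X Y : Scheme.{u}}

theorem finite_H_of_iso {F G : EtCoh.Ab X} (e : F ≅ G) {q : ℕ} (h : Finite (EtCoh.H X G q)) :
    Finite (EtCoh.H X F q) := by
  haveI := h
  refine Finite.of_injective (fun x : EtCoh.H X F q => (x.comp (Ext.mk₀ e.hom) (add_zero q) : EtCoh.H X G q))
    fun a b hab => ?_
  have := congrArg (fun y : EtCoh.H X G q => y.comp (Ext.mk₀ e.inv) (add_zero q)) hab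
  simpa [Ext.comp_assoc_of_second_deg_zero, Ext.comp_assoc_of_third_deg_zero] using this

theorem finite_H_biproduct {n : ℕ} (G : Fin n → EtCoh.Ab X) {q : ℕ} (h : ∀ i, Finite (EtCoh.H X (G i) q)) :
    Finite (EtCoh.H X (⨁ G) q) := by
  haveI := h
  refine Finite.of_injective (fun (x : EtCoh.H X (⨁ G) q) (i : Fin n) =>
    (x.comp (Ext.mk₀ (biproduct.π G i)) (add_zero q) : EtCoh.H X (G i) q)) fun a b hab => ?_
  have key : ∀ x : EtCoh.H X (⨁ G) q,
      x = ∑ i, (x.comp (Ext.mk₀ (biproduct.π G i)) (add_zero q)).comp (Ext.mk₀ (biproduct.ι G i)) (add_zero q) := by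
    intro x
    have h1 : x.comp (Ext.mk₀ (∑ i, biproduct.π G i ≫ biproduct.ι G i)) (add_zero q) = x := by
      rw [biproduct.total, Ext.comp_mk₀_id]
    conv_lhs => rw [← h1]
    rw [Ext.mk₀_sum, Ext.comp_sum]
    refine Finset.sum_congr rfl fun i _ => ?_
    rw [← Ext.mk₀_comp_mk₀, Ext.comp_assoc_of_third_deg_zero]
  rw [key a, key b]
  exact Finset.sum_congr rfl fun i _ => by rw [show a.comp (Ext.mk₀ (biproduct.π G i)) (add_zero q) = b.comp (Ext.mk₀ (biproduct.π G i)) (add_zero q) from congrFun hab i]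

theorem finite_H_push (f : Y ⟶ X) [IsIntegralHom f] (G : EtCoh.Ab Y) {q : ℕ} (h : Finite (EtCoh.H Y G q)) :
    Finite (EtCoh.H X ((EtCoh.push f).obj G) q) :=
  haveI := h
  Finite.of_injective _ (FieldH25.bijective_HofPush_integral f G q).1

theorem finite_H_const_of_homeo (i : Y ⟶ X) [IsIntegralHom i] [UniversallyInjective i] [Surjective i]
    (M : Type) [AddCommGroup M] {q : ℕ} (h : Finite (EtCoh.H Y (EtCoh.const Y M) q)) :
    Finite (EtCoh.H X (EtCoh.const X M) q) := by
  haveI : PreservesFiniteLimits (EtCoh.pull i) := EtStalk.preservesFiniteLimits_pull i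
  haveI := finite_H_of_iso (EtCore.pullConst i M) h
  exact Finite.of_injective _ (S0642.result i (EtCoh.const X M) q).1

theorem finite_of_ses {S : ShortComplex (EtCoh.Ab X)} (hS : S.ShortExact) {q : ℕ}
    (h₁ : Finite (EtCoh.H X S.X₁ q)) (h₃ : Finite (EtCoh.H X S.X₃ q)) : Finite (EtCoh.H X S.X₂ q) := by
  classical
  haveI := h₁
  haveI := h₃
  let g : EtCoh.H X S.X₂ q →+ EtCoh.H X S.X₃ q := Sheaf.H.map S.g q
  let f : EtCoh.H X S.X₁ q → g.ker := fun y => ⟨y.comp (Ext.mk₀ S.f) (add_zero q), by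
    show (y.comp (Ext.mk₀ S.f) (add_zero q)).comp (Ext.mk₀ S.g) (add_zero q) = 0
    rw [Ext.comp_assoc_of_second_deg_zero, Ext.mk₀_comp_mk₀, S.zero, Ext.mk₀_zero, Ext.comp_zero]⟩
  haveI : Finite g.ker := Finite.of_surjective f fun x => by
    obtain ⟨y, hy⟩ := Ext.covariant_sequence_exact₂ _ hS x.1 x.2
    exact ⟨y, Subtype.ext hy⟩
  haveI : Finite (EtCoh.H X S.X₂ q ⧸ g.ker) :=
    Finite.of_injective _ (QuotientAddGroup.kerLift_injective g)
  exact Finite.of_equiv _ (AddSubgroup.addGroupEquivQuotientProdAddSubgroup (s := g.ker)).symm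

/-- Finiteness passes to a subsheaf of a sheaf with finite cohomology, given it one degree lower. -/
theorem finite_H_of_mono [IsLocallyNoetherian X] {F G : EtCoh.Ab X} (ι : F ⟶ G) [Mono ι]
    (hG : EtPBC.IsConstructible G) {q : ℕ} (hfin : Finite (EtCoh.H X G q))
    (hlow : ∀ Q : EtCoh.Ab X, EtPBC.IsConstructible Q → ∀ p, p + 1 = q → Finite (EtCoh.H X Q p)) :
    Finite (EtCoh.H X F q) := by
  classical
  haveI := hfin
  let S : ShortComplex (EtCoh.Ab X) := ShortComplex.mk ι (cokernel.π ι) (cokernel.condition ι)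
  have hS : S.ShortExact := { exact := ShortComplex.exact_of_g_is_cokernel _ (cokernelIsCokernel ι) }
  match q with
  | 0 =>
    refine Finite.of_injective (fun x : EtCoh.H X F 0 => (x.comp (Ext.mk₀ ι) (add_zero 0) : EtCoh.H X G 0))
      fun a b hab => ?_
    obtain ⟨a, rfl⟩ := (Ext.mk₀_bijective _ _).2 a
    obtain ⟨b, rfl⟩ := (Ext.mk₀_bijective _ _).2 b
    simp only [Ext.mk₀_comp_mk₀] at hab
    exact congrArg _ ((cancel_mono ι).1 ((Ext.mk₀_bijective _ _).1 hab))
  | p + 1 =>
    haveI := hlow (cokernel ι) (Constr24.isConstructible_quotient (cokernel.π ι) hG) p rfl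
    let g : EtCoh.H X F (p + 1) →+ EtCoh.H X G (p + 1) := Sheaf.H.map ι (p + 1)
    let d : EtCoh.H X (cokernel ι) p → g.ker := fun y => ⟨y.comp hS.extClass rfl, by
      show (y.comp hS.extClass (rfl : p + 1 = p + 1)).comp (Ext.mk₀ S.f) (add_zero (p + 1)) = 0
      rw [Ext.comp_assoc_of_third_deg_zero, hS.extClass_comp, Ext.comp_zero]⟩
    haveI : Finite g.ker := Finite.of_surjective d fun x => by
      obtain ⟨y, hy⟩ := Ext.covariant_sequence_exact₁ _ hS x.1 x.2 (n₀ := p) rfl
      exact ⟨y, Subtype.ext hy⟩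
    haveI : Finite (EtCoh.H X F (p + 1) ⧸ g.ker) :=
      Finite.of_injective _ (QuotientAddGroup.kerLift_injective g)
    exact Finite.of_equiv _ (AddSubgroup.addGroupEquivQuotientProdAddSubgroup (s := g.ker)).symm

theorem isConstructible_const [CompactSpace X] [QuasiSeparatedSpace X] (M : Type) [AddCommGroup M] [Finite M] :
    EtPBC.IsConstructible (EtCoh.const X M) :=
  Constr24.isConstructible_of_flc (LocConst24.flc_const _ M)

/-- Exact sequences of constant sheaves. -/
theorem finite_H_const_extension {A M B : Type} [AddCommGroup A] [AddCommGroup M] [AddCommGroup B] (i : A →+ M)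
    (p : M →+ B) (hi : Function.Injective i) (hp : Function.Surjective p) (he : Function.Exact i p) {q : ℕ}
    (hA : Finite (EtCoh.H X (EtCoh.const X A) q)) (hB : Finite (EtCoh.H X (EtCoh.const X B) q)) :
    Finite (EtCoh.H X (EtCoh.const X M) q) := by
  let i' : AddCommGrpCat.of (ULift.{u + 1} A) ⟶ AddCommGrpCat.of (ULift.{u + 1} M) :=
    AddCommGrpCat.ofHom ((AddEquiv.ulift.symm.toAddMonoidHom.comp i).comp AddEquiv.ulift.toAddMonoidHom)
  let p' : AddCommGrpCat.of (ULift.{u + 1} M) ⟶ AddCommGrpCat.of (ULift.{u + 1} B) :=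
    AddCommGrpCat.ofHom ((AddEquiv.ulift.symm.toAddMonoidHom.comp p).comp AddEquiv.ulift.toAddMonoidHom)
  let T : ShortComplex AddCommGrpCat.{u + 1} := ShortComplex.mk i' p' (AddCommGrpCat.ext fun a =>
    ULift.ext _ _ (he.apply_apply_eq_zero a.down))
  have hT : T.ShortExact :=
    { exact := (ShortComplex.ab_exact_iff T).2 fun m hm => by
        obtain ⟨a, ha⟩ := (he m.down).1 (congrArg ULift.down hm)
        exact ⟨ULift.up a, ULift.ext _ _ ha⟩
      mono_f := (AddCommGrpCat.mono_iff_injective _).2 fun a b h => ULift.ext _ _ (hi (congrArg ULift.down h))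
      epi_g := (AddCommGrpCat.epi_iff_surjective _).2 fun b => by
        obtain ⟨m, hm⟩ := hp b.down
        exact ⟨ULift.up m, ULift.ext _ _ hm⟩ }
  haveI : PreservesFiniteLimits (constantSheaf X.smallEtaleTopology AddCommGrpCat.{u + 1}) :=
    comp_preservesFiniteLimits _ _
  haveI : PreservesFiniteColimits (constantSheaf X.smallEtaleTopology AddCommGrpCat.{u + 1}) :=
    comp_preservesFiniteColimits _ _
  exact finite_of_ses (hT.map_of_exact (constantSheaf X.smallEtaleTopology AddCommGrpCat.{u + 1})) hA hB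

/-- The units of a jointly surjective family give a monomorphism. -/
theorem mono_lift_units {n : ℕ} (W : Fin n → Scheme.{u}) (g : ∀ i, W i ⟶ X)
    (hg : ∀ x : X, ∃ i, x ∈ Set.range (g i)) (F : EtCoh.Ab X) :
    Mono (biproduct.lift fun i => ((EtCoh.pullPushAdj (g i)).unit.app F :
      F ⟶ (EtCoh.push (g i)).obj ((EtCoh.pull (g i)).obj F))) := by
  refine Preadditive.mono_of_isZero_kernel _ ?_
  set v := biproduct.lift fun i => ((EtCoh.pullPushAdj (g i)).unit.app F :
      F ⟶ (EtCoh.push (g i)).obj ((EtCoh.pull (g i)).obj F)) with hv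
  rw [isZero_iff_stalk]
  intro Θ _ _ ξ
  obtain ⟨i, x, hx⟩ := hg (ξ default)
  let Ω := SeparableClosure ((W i).residueField x)
  haveI : IsSepClosed (IsLocalRing.ResidueField Ω) := EtDesc24.isSepClosed_residueField _
  haveI : (EtCoh.pull (g i)).Additive := (EtCoh.pullPushAdj (g i)).left_adjoint_additive
  haveI : PreservesFiniteLimits (EtCoh.pull (g i)) := EtStalk.preservesFiniteLimits_pull (g i)
  let w := (EtCoh.pullPushAdj (g i)).unit.app F
  haveI : IsSplitMono ((EtCoh.pull (g i)).map w) :=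
    ⟨⟨⟨(EtCoh.pullPushAdj (g i)).counit.app _, (EtCoh.pullPushAdj (g i)).left_triangle_components F⟩⟩⟩
  have h1 : kernel.ι v ≫ w = 0 := by
    have hw : v ≫ biproduct.π (fun j => (EtCoh.push (g j)).obj ((EtCoh.pull (g j)).obj F)) i = w :=
      biproduct.lift_π _ i
    rw [← hw, kernel.condition_assoc, zero_comp]
  have h2 : (EtCoh.pull (g i)).map (kernel.ι v) = 0 := by
    rw [← cancel_mono ((EtCoh.pull (g i)).map w), zero_comp, ← Functor.map_comp, h1, Functor.map_zero]
  have hk : IsZero ((EtCoh.pull (g i)).obj (kernel v)) := IsZero.of_mono_eq_zero _ h2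
  let η := closedPt Ω ≫ Embed24.pt (W i) x Ω
  have h0 : Subsingleton ((EtCoh.stalk (η ≫ g i)).obj (kernel v)) := by
    haveI := AddCommGrpCat.subsingleton_of_isZero ((isZero_iff_stalk _).1 hk _ η)
    exact (Equiv.ofBijective _
      (ConcreteCategory.bijective_of_isIso (stalkPull (g i) η (kernel v)))).subsingleton
  suffices e : ξ default = (η ≫ g i) default by
    have hsur := Constr24.surjective_stalk_congr (0 : kernel v ⟶ kernel v) ξ (η ≫ g i) e
      fun q => ⟨q, @Subsingleton.elim _ h0 _ _⟩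
    have : Subsingleton ((EtCoh.stalk ξ).obj (kernel v)) := subsingleton_of_forall_eq 0 fun q => by
      obtain ⟨r, rfl⟩ := hsur q
      rw [Functor.map_zero]
      rfl
    exact AddCommGrpCat.isZero_of_subsingleton _
  rw [Scheme.Hom.comp_apply, Scheme.Hom.comp_apply, Embed24.pt_apply]
  exact hx.symm

end Groth.Agent.CurveFin32
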