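import Groth.Agent.Lib.CurveFin32.Base
import Groth.Agent.Lib.CurveFin32.Devissage
import Groth.Agent.Lib.GaCoh3.ASGlobal
import Groth.Agent.Lib.DVRVal.Curve
import Groth.Agent.Lib.VB17.Setup
import Groth.Agent.Lib.NumPoly18.Euler
import Groth.Agent.Lib.H12.DimZero
import Groth.Agent.Lib.LocImm12.Basic
import Groth.Agent.Lib.EtPic3.Artinian
import Groth.Agent.S1561
import Groth.Agent.S1585
import Groth.Agent.S0144

/-!
# Finiteness of the cohomology of a proper curve
-/

set_option autoImplicit false
set_option linter.style.haveILetI false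
set_option linter.unusedSectionVars false
set_option backward.isDefEq.respectTransparency.types false
set_option maxHeartbeats 1000000

universe u

open CategoryTheory CategoryTheory.Limits AlgebraicGeometry Opposite CategoryTheory.Abelian

attribute [local instance] Abelian.hasFiniteBiproducts

noncomputable section

namespace Groth.Agent.CurveFin32

open Groth.Agent

variable {k : Type u} [Field k] [IsAlgClosed k]

/-- Over a separably closed field a point has finite cohomology. -/
theorem finite_H_spec (M : Type) [AddCommGroup M] [Finite M] (q : ℕ) :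
    Finite (EtCoh.H (Spec (CommRingCat.of k)) (EtCoh.const (Spec (CommRingCat.of k)) M) q) := by
  rcases Nat.eq_zero_or_pos q with rfl | hq
  · haveI : IsSepClosed (IsLocalRing.ResidueField k) := EtDesc24.isSepClosed_residueField k
    haveI : Finite (ULift.{u + 1} M) := Finite.of_equiv _ Equiv.ulift.symm
    haveI : Finite ((EtCoh.const (Spec (CommRingCat.of k)) M).obj.obj (op (EtCoh.top _))) :=
      Finite.of_surjective _ (LocAcyc24.bijective_cst_top k (AddCommGrpCat.of (ULift.{u + 1} M))).2
    exact Finite.of_equiv _ (PointLim24.H0Sec _ _).symm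
  · haveI := EtPic3.subsingleton_H_sepClosed k (EtCoh.const (Spec (CommRingCat.of k)) M) hq
    infer_instance

/-- An integral proper scheme of dimension at most zero over an algebraically closed field is a point. -/
theorem isIso_of_dim_le_zero {X : Scheme.{u}} (f : X ⟶ Spec (CommRingCat.of k)) [IsProper f] [IsIntegral X]
    (hdim : topologicalKrullDim X ≤ 0) : IsIso f := by
  have hpt : ∀ x : X, x = genericPoint X := fun x => by
    have hmin := Order.krullDim_nonpos_iff_forall_isMin.1 hdim
      ⟨Set.univ, IrreducibleSpace.isIrreducible_univ X, isClosed_univ⟩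
    have h1 := hmin (b := ⟨closure {x}, isIrreducible_singleton.closure, isClosed_closure⟩) fun y _ => trivial
    refine IsGenericPoint.eq ?_ (genericPoint_spec X)
    exact Set.Subset.antisymm (Set.subset_univ _) h1
  obtain ⟨U, hU, hxU, -⟩ := exists_isAffineOpen_mem_and_subset (U := (⊤ : X.Opens)) (x := genericPoint X) trivial
  have hUtop : U = ⊤ := top_le_iff.1 fun x _ => hpt x ▸ hxU
  haveI : IsAffine X := by
    haveI : IsAffine (⊤ : X.Opens).toScheme := hUtop ▸ hU
    exact .of_isIso X.topIso.inv
  have hint : (f.appTop).hom.IsIntegral := isIntegral_appTop_of_universallyClosed f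
  letI := (isField_of_universallyClosed k f).toField
  let F := (Scheme.ΓSpecIso (CommRingCat.of k)).inv ≫ f.appTop
  letI := F.hom.toAlgebra
  haveI : Algebra.IsIntegral k Γ(X, ⊤) := ⟨by
    apply RingHom.isIntegral_respectsIso.2 (e := (Scheme.ΓSpecIso _).symm.commRingCatIsoToRingEquiv)
    exact hint⟩
  have hb : Function.Bijective (algebraMap k Γ(X, ⊤)) := IsAlgClosed.algebraMap_bijective_of_isIntegral
  haveI : IsIso F := (ConcreteCategory.isIso_iff_bijective F).2 hb
  haveI : IsIso f.appTop := IsIso.of_isIso_comp_left (Scheme.ΓSpecIso (CommRingCat.of k)).inv f.appTop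
  have hf : f = X.isoSpec.hom ≫ Spec.map f.appTop ≫ (Spec (CommRingCat.of k)).isoSpec.inv := by
    rw [← Category.assoc, Scheme.isoSpec_hom_naturality, Category.assoc, Iso.hom_inv_id, Category.comp_id]
  rw [hf]
  infer_instance

/-- Finiteness for an integral normal proper curve. -/
theorem finite_H_integral {X : Scheme.{u}} (f : X ⟶ Spec (CommRingCat.of k)) [IsProper f] [IsIntegral X]
    (hN : Pi1.IsNormalScheme X) (hdim : topologicalKrullDim X ≤ 1) {ℓ : ℕ} (hℓ : ℓ.Prime) (q : ℕ) :
    Finite (EtCoh.H X (EtCoh.const X (ZMod ℓ)) q) := by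
  haveI := Fact.mk hℓ
  haveI : NeZero ℓ := ⟨hℓ.ne_zero⟩
  by_cases hk : (ℓ : k) = 0
  · haveI : CharP k ℓ := (CharP.charP_iff_prime_eq_zero hℓ).2 hk
    exact GaCoh3.finite_H_zmod ℓ (GaCoh3.natCast_eq_zero_of_over ℓ f) f q
  by_cases h1 : topologicalKrullDim X = 1
  · letI : X.Over (Spec (CommRingCat.of k)) := ⟨f⟩
    haveI : IsLocallyNoetherian X := LocallyOfFiniteType.isLocallyNoetherian f
    haveI : LocallyOfFinitePresentation f := LocImm12.locallyOfFinitePresentation_of_locallyOfFiniteType f
    haveI : LocallyOfFinitePresentation (X ↘ Spec (CommRingCat.of k)) := ‹LocallyOfFinitePresentation f›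
    have hreg : ∀ x : X, IsRegularLocalRing (X.presheaf.stalk x) := fun x => by
      haveI := (hN x).1
      haveI := (hN x).2
      exact DVRVal.isRegularLocalRing_of_normal _ ((VB17.ringKrullDim_stalk_le_topologicalKrullDim x).trans hdim)
    haveI : Smooth f := (Scheme.Hom.smoothLocus_eq_top_iff (f := f)).1
      (top_le_iff.1 fun x _ => ((Groth.Agent.S1561.result k X).1 x).2 (hreg x))
    exact finite_H_zmod_smooth f h1 hℓ hk q
  · have h0 : topologicalKrullDim X ≤ 0 := by
      rcases lt_or_eq_of_le hdim with h | h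
      · match hd : topologicalKrullDim X, h with
        | ⊥, _ => exact bot_le
        | (m : ℕ∞), h => exact WithBot.coe_le_coe.2 (Order.lt_one_iff.1 (WithBot.coe_lt_coe.1 h)).le
      · exact absurd h h1
    haveI := isIso_of_dim_le_zero f h0
    exact finite_H_const_of_homeo (inv f) (ZMod ℓ) (finite_H_spec (ZMod ℓ) q)

/-- Finiteness of the cohomology of all constructible sheaves on proper curves in one degree. -/
def FiniteIn (k : Type u) [Field k] (q : ℕ) : Prop :=
  ∀ (X : Scheme.{u}) (f : X ⟶ Spec (CommRingCat.of k)), IsProper f → topologicalKrullDim X ≤ 1 →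
    ∀ F : EtCoh.Ab X, EtPBC.IsConstructible F → Finite (EtCoh.H X F q)

/-- The inductive step for `ℤ/ℓ`. -/
theorem finite_H_zmod_step {q : ℕ} (ih : ∀ p, p + 1 = q → FiniteIn k p) {X : Scheme.{u}}
    (f : X ⟶ Spec (CommRingCat.of k)) [IsProper f] (hdim : topologicalKrullDim X ≤ 1) {ℓ : ℕ} (hℓ : ℓ.Prime) :
    Finite (EtCoh.H X (EtCoh.const X (ZMod ℓ)) q) := by
  classical
  haveI : NeZero ℓ := ⟨hℓ.ne_zero⟩
  haveI : IsLocallyNoetherian X := LocallyOfFiniteType.isLocallyNoetherian f
  haveI : CompactSpace X := QuasiCompact.compactSpace_of_compactSpace f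
  haveI : IsNoetherian X := {}
  haveI : Finite (genericPoints X) :=
    (genericPoints.finite (TopologicalSpace.NoetherianSpace.finite_irreducibleComponents)).to_subtype
  let n := Nat.card (genericPoints X)
  let η : Fin n → X := fun i => ((Finite.equivFin (genericPoints X)).symm i).1
  haveI hI : ∀ i, IsIntegral (NumPoly18.ptIdeal (η i)).subscheme := fun i => (NumPoly18.isIntegral_pt (η i)).1
  let W : Fin n → Scheme.{u} := fun i => Curv2.normalization (NumPoly18.ptIdeal (η i)).subscheme
  let g : ∀ i, W i ⟶ X := fun i =>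
    Curv2.normalizationι (NumPoly18.ptIdeal (η i)).subscheme ≫ (NumPoly18.ptIdeal (η i)).subschemeι
  have hprop : ∀ i, IsFinite (g i) ∧ (∀ x ∈ closure ({η i} : Set X), x ∈ Set.range (g i)) ∧
      IsIntegral (W i) ∧ Pi1.IsNormalScheme (W i) := fun i => by
    let Z := (NumPoly18.ptIdeal (η i)).subscheme
    letI : Z.Over (Spec (CommRingCat.of k)) := ⟨(NumPoly18.ptIdeal (η i)).subschemeι ≫ f⟩
    haveI : LocallyOfFiniteType (Z ↘ Spec (CommRingCat.of k)) :=
      inferInstanceAs (LocallyOfFiniteType ((NumPoly18.ptIdeal (η i)).subschemeι ≫ f))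
    obtain ⟨hfin, hdom, -, hint, hnor⟩ := Groth.Agent.S1585.result k Z
    haveI : IsFinite (Curv2.normalizationι Z) := hfin
    refine ⟨inferInstanceAs (IsFinite (Curv2.normalizationι Z ≫ _)), fun x hx => ?_, hint, hnor⟩
    rw [← NumPoly18.range_ptι (η i)] at hx
    obtain ⟨z, rfl⟩ := hx
    have hsurj : Set.range (Curv2.normalizationι Z) = Set.univ :=
      ((Curv2.normalizationι Z).isClosedMap.isClosed_range).closure_eq ▸ hdom.denseRange.closure_range
    obtain ⟨w, hw⟩ : z ∈ Set.range (Curv2.normalizationι Z) := hsurj ▸ Set.mem_univ z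
    exact ⟨w, by rw [Scheme.Hom.comp_apply, hw]⟩
  haveI : ∀ i, IsFinite (g i) := fun i => (hprop i).1
  haveI : ∀ i, LocallyOfFinitePresentation (g i) := fun i =>
    LocImm12.locallyOfFinitePresentation_of_locallyOfFiniteType (g i)
  have hcov : ∀ x : X, ∃ i, x ∈ Set.range (g i) := fun x => by
    let γ := genericPoints.ofComponent
      (⟨irreducibleComponent x, irreducibleComponent_mem_irreducibleComponents x⟩ : irreducibleComponents X)
    refine ⟨Finite.equivFin (genericPoints X) γ, (hprop _).2.1 x ?_⟩
    simp only [η, Equiv.symm_apply_apply]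
    rw [(genericPoints.isGenericPoint_ofComponent _ : IsGenericPoint γ.1 _).def]
    exact mem_irreducibleComponent
  haveI := mono_lift_units W g hcov (EtCoh.const X (ZMod ℓ))
  refine finite_H_of_mono (biproduct.lift fun i => ((EtCoh.pullPushAdj (g i)).unit.app (EtCoh.const X (ZMod ℓ)) :
      EtCoh.const X (ZMod ℓ) ⟶ (EtCoh.push (g i)).obj ((EtCoh.pull (g i)).obj (EtCoh.const X (ZMod ℓ))))) ?_ ?_
    fun Q hQ p hp => ih p hp X f ‹_› hdim Q hQ
  · refine Constr24.isConstructible_biproduct _ fun i => Constr24.isConstructible_push_finite (g i) ?_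
    haveI : CompactSpace (W i) := QuasiCompact.compactSpace_of_compactSpace (g i)
    haveI : QuasiSeparatedSpace (W i) := quasiSeparatedSpace_of_quasiSeparated (g i ≫ f)
    exact Constr24.isConstructible_iso (EtCore.pullConst (g i) (ZMod ℓ)).symm (isConstructible_const (ZMod ℓ))
  · refine finite_H_biproduct _ fun i => finite_H_push (g i) _
      (finite_H_of_iso (EtCore.pullConst (g i) (ZMod ℓ)) ?_)
    haveI := (hprop i).2.2.1
    exact finite_H_integral (g i ≫ f) (hprop i).2.2.2
      ((H12.topologicalKrullDim_le_of_eq_of_specializes (g i) (g i).continuous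
        fun _ _ h he => H12.eq_of_specializes_of_isIntegralHom (g i) h he).trans hdim) hℓ q

/-- The inductive step for finite constant sheaves. -/
theorem finite_H_const_step {q : ℕ} (ih : ∀ p, p + 1 = q → FiniteIn k p) {X : Scheme.{u}}
    (f : X ⟶ Spec (CommRingCat.of k)) [IsProper f] (hdim : topologicalKrullDim X ≤ 1) :
    ∀ (c : ℕ) (M : Type) [AddCommGroup M] [Finite M], Nat.card M = c →
      Finite (EtCoh.H X (EtCoh.const X M) q) := by
  intro c
  induction c using Nat.strong_induction_on with
  | _ c ihc =>
    intro M _ _ hc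
    rcases subsingleton_or_nontrivial M with hM | hM
    · haveI : Subsingleton (EtCoh.H X (EtCoh.const X M) q) := by
        have hz : IsZero (EtCoh.const X M) := Functor.map_isZero
          (constantSheaf X.smallEtaleTopology AddCommGrpCat.{u + 1}) (AddCommGrpCat.isZero_of_subsingleton _)
        refine subsingleton_of_forall_eq 0 fun x => ?_
        rw [← Ext.comp_mk₀_id x, hz.eq_of_src (𝟙 _) 0, Ext.mk₀_zero, Ext.comp_zero]
      infer_instance
    · obtain ⟨ℓ, hℓ, hdvd⟩ := Nat.exists_prime_and_dvd (n := Nat.card M) Finite.one_lt_card.ne'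
      haveI := Fact.mk hℓ
      obtain ⟨a, ha⟩ := exists_prime_addOrderOf_dvd_card' ℓ hdvd
      let i : ZMod ℓ →+ M := ZMod.lift ℓ ⟨zmultiplesHom M a, by
        rw [zmultiplesHom_apply, natCast_zsmul, ← ha, addOrderOf_nsmul_eq_zero]⟩
      have hi : Function.Injective i := (ZMod.lift_injective _).2 fun m hm => by
        rw [ZMod.intCast_zmod_eq_zero_iff_dvd, ← ha, addOrderOf_dvd_iff_zsmul_eq_zero]
        exact hm
      refine finite_H_const_extension i (QuotientAddGroup.mk' i.range) hi (QuotientAddGroup.mk'_surjective _)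
        (fun m => by simp) (finite_H_zmod_step ih f hdim hℓ) (ihc _ ?_ _ rfl)
      have h1 := AddSubgroup.card_eq_card_quotient_mul_card_addSubgroup i.range
      have h2 : Nat.card i.range = ℓ :=
        (Nat.card_congr (AddMonoidHom.ofInjective hi).toEquiv).symm.trans (Nat.card_zmod ℓ)
      rw [← hc, h1, h2]
      exact lt_mul_of_one_lt_right Nat.card_pos hℓ.one_lt

/-- Cohomology of constructible sheaves on proper curves is finite. -/
theorem finiteIn (q : ℕ) : FiniteIn k q := by
  induction q using Nat.strong_induction_on with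
  | _ q ih =>
    intro X f hf hdim F hF
    classical
    haveI := hf
    haveI : IsLocallyNoetherian X := LocallyOfFiniteType.isLocallyNoetherian f
    haveI : CompactSpace X := QuasiCompact.compactSpace_of_compactSpace f
    haveI : QuasiSeparatedSpace X := quasiSeparatedSpace_of_quasiSeparated f
    have ih' : ∀ p, p + 1 = q → FiniteIn k p := fun p hp => ih p (by omega)
    obtain ⟨n, Y, g, hg, hg', M, iM, iM', h⟩ := Groth.Agent.S0144.result X F hF
    obtain ⟨ι, hι⟩ := h
    haveI := hι
    haveI : ∀ i, CompactSpace (Y i) := fun i => QuasiCompact.compactSpace_of_compactSpace (g i)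
    haveI : ∀ i, QuasiSeparatedSpace (Y i) := fun i => quasiSeparatedSpace_of_quasiSeparated (g i ≫ f)
    refine finite_H_of_mono ι (Constr24.isConstructible_biproduct _ fun i =>
      Constr24.isConstructible_push_finite (g i) (isConstructible_const (M i)))
      (finite_H_biproduct _ fun i => finite_H_push (g i) _
        (finite_H_const_step ih' (g i ≫ f) ((H12.topologicalKrullDim_le_of_eq_of_specializes (g i) (g i).continuous
          fun _ _ h he => H12.eq_of_specializes_of_isIntegralHom (g i) h he).trans hdim) _ (M i) rfl))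
      fun Q hQ p hp => ih' p hp X f hf hdim Q hQ

end Groth.Agent.CurveFin32
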