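import Groth.Agent.Lib.JacPts22.TorsCount
import Groth.Agent.S0383

/-!
# The Picard group of a curve modulo `n` is finite
-/

set_option autoImplicit false
set_option linter.style.haveILetI false
set_option linter.unusedSectionVars false
set_option backward.isDefEq.respectTransparency false
set_option backward.isDefEq.respectTransparency.types false
set_option maxHeartbeats 1000000

universe u

open CategoryTheory CategoryTheory.Limits AlgebraicGeometry MonoidalCategory CartesianMonoidalCategory MonObj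

noncomputable section

namespace Groth.Agent.CurveFin32

open Groth.Agent.Abel10 (pc pc_comp pc_id)
open Groth.Agent.JacPts22

noncomputable local instance instLawPicMod (Y : Scheme.{u}) : PicGrp.Law Y := M2.law Y

variable {k : Type u} [Field k] [IsAlgClosed k]

/-- A multiplication on an abelian variety is surjective on rational points. -/
theorem exists_pow_eq (A : Over (Spec (CommRingCat.of k))) [GrpObj A] [IsProper A.hom]
    [GeometricallyIntegral A.hom] {n : ℕ} (hn : 1 ≤ n) (a : 𝟙_ (Over (Spec (CommRingCat.of k))) ⟶ A) :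
    ∃ b : 𝟙_ (Over (Spec (CommRingCat.of k))) ⟶ A, b ^ n = a := by
  haveI : Surjective (𝟙 A ^ n).left := S0383.result k A n hn
  let φ : A ⟶ A := 𝟙 A ^ n
  haveI : IsProper (φ.left ≫ A.hom) := by rw [Over.w φ]; infer_instance
  haveI : IsProper φ.left := IsProper.of_comp φ.left A.hom
  let a' : Spec (CommRingCat.of k) ⟶ A.left := a.left
  have ha : a' ≫ A.hom = 𝟙 _ := Over.w a
  let P := pullback φ.left a'
  let q : P ⟶ Spec (CommRingCat.of k) := pullback.snd φ.left a'
  haveI : Surjective q := MorphismProperty.pullback_snd _ _ inferInstance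
  haveI : LocallyOfFiniteType q := MorphismProperty.pullback_snd _ _ inferInstance
  haveI : JacobsonSpace P := LocallyOfFiniteType.jacobsonSpace q
  obtain ⟨z₀, -⟩ := q.surjective (IsLocalRing.closedPoint k)
  obtain ⟨z, hz⟩ : (closedPoints P).Nonempty := by
    rw [← Set.univ_inter (closedPoints P)]
    exact nonempty_inter_closedPoints ⟨z₀, trivial⟩ isClosed_univ.isLocallyClosed
  let w : Spec (CommRingCat.of k) ⟶ A.left := pointOfClosedPoint q z hz ≫ pullback.fst φ.left a'
  have hwφ : w ≫ φ.left = a' := by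
    rw [Category.assoc, pullback.condition, pointOfClosedPoint_comp_assoc]
  have hw : w ≫ A.hom = 𝟙 _ := by
    rw [← Over.w φ, reassoc_of% hwφ, ha]
  let b : 𝟙_ (Over (Spec (CommRingCat.of k))) ⟶ A := Over.homMk w hw
  refine ⟨b, ?_⟩
  have h1 : b ≫ φ = a := Over.OverMorphism.ext hwφ
  rw [← h1]
  show b ^ n = b ≫ (𝟙 A ^ n)
  rw [MonObj.comp_pow, Category.comp_id]

/-- A group with a degree whose kernel consists of `n`-th powers has finitely many classes modulo `n`-th powers. -/
theorem finite_mod_of_degree {G : Type*} [CommGroup G] (d : G → ℤ) (hd : ∀ a b, d (a * b) = d a + d b) {n : ℕ}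
    (hn : 0 < n) (hker : ∀ c, d c = 0 → ∃ b, b ^ n = c) :
    ∃ T : Finset G, ∀ c, ∃ t ∈ T, ∃ b, t * b ^ n = c := by
  classical
  have h0 : d 1 = 0 := by have := hd 1 1; rw [_root_.mul_one] at this; omega
  let D : AddSubgroup ℤ :=
    { carrier := Set.range d
      add_mem' := by rintro _ _ ⟨a, rfl⟩ ⟨b, rfl⟩; exact ⟨a * b, hd a b⟩
      zero_mem' := ⟨1, h0⟩
      neg_mem' := by rintro _ ⟨a, rfl⟩; exact ⟨a⁻¹, by have := hd a a⁻¹; rw [mul_inv_cancel, h0] at this; omega⟩ }
  obtain ⟨e, he⟩ := Int.subgroup_cyclic D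
  obtain ⟨g, hg⟩ : e ∈ D := he ▸ AddSubgroup.subset_closure rfl
  have hpow : ∀ (x : G) (m : ℕ), d (x ^ m) = m * d x := fun x m => by
    induction m with
    | zero => simp [h0]
    | succ m ih => rw [pow_succ, hd, ih]; push_cast; ring
  have hzpow : ∀ (x : G) (m : ℤ), d (x ^ m) = m * d x := fun x m => by
    induction m using Int.induction_on with
    | zero => simp [h0]
    | succ m ih => rw [zpow_add_one, hd, ih]; ring
    | pred m ih =>
      have h := hd (x ^ (-(m : ℤ) - 1)) x
      rw [← zpow_add_one, sub_add_cancel, ih] at h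
      linarith
  refine ⟨(Finset.range n).image fun i : ℕ => g ^ i, fun c => ?_⟩
  obtain ⟨m, hm⟩ : ∃ m : ℤ, m • e = d c :=
    AddSubgroup.mem_closure_singleton.1 (he ▸ (⟨c, rfl⟩ : d c ∈ D))
  obtain ⟨b, hb⟩ := hker (c * (g ^ m)⁻¹) (by
    have h := hd (c * (g ^ m)⁻¹) (g ^ m)
    rw [inv_mul_cancel_right, hzpow, hg, ← hm, smul_eq_mul] at h
    omega)
  refine ⟨g ^ (m % n).toNat, Finset.mem_image.2 ⟨_, Finset.mem_range.2 ?_, rfl⟩, g ^ (m / n) * b, ?_⟩
  · have := Int.emod_lt_of_pos m (by exact_mod_cast hn : (0 : ℤ) < n)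
    omega
  · rw [mul_pow, hb, ← _root_.mul_assoc, ← zpow_natCast g, Int.toNat_of_nonneg (Int.emod_nonneg m (by omega)),
      ← zpow_natCast (g ^ (m / (n : ℤ))), ← zpow_mul, ← zpow_add, mul_comm (m / (n : ℤ)) n, Int.emod_add_mul_ediv,
      mul_comm c, mul_inv_cancel_left]

variable {C : Scheme.{u}} [C.Over (Spec (CommRingCat.of k))]
  [IsProper (C ↘ Spec (CommRingCat.of k))] [Smooth (C ↘ Spec (CommRingCat.of k))] [IsIntegral C]
  [GeometricallyConnected (C ↘ Spec (CommRingCat.of k))]
  [GeometricallyIrreducible (C ↘ Spec (CommRingCat.of k))]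
  (hdim : topologicalKrullDim C = 1)

include hdim

/-- A class of degree zero is the class of a point of the Jacobian. -/
theorem exists_iota_of_deg (J : Over (Spec (CommRingCat.of k))) [GrpObj J]
    (ψ : (ModFun.PicDeg (C ↘ Spec (CommRingCat.of k)) 0).Hom ⊤ J)
    (hJ : Jac.IsJacobian (C ↘ Spec (CommRingCat.of k)) ⊤ J ψ) (c : PicLoc.PicSet C)
    (hc : ∀ t, PicTan20.degCl (C ↘ Spec (CommRingCat.of k)) (T₀ k) t
      (pc (pullback.fst (C ↘ Spec (CommRingCat.of k)) (T₀ k).hom) c).1 = 0) :
    ∃ a, iota hdim J ψ hJ a = c := by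
  let f := C ↘ Spec (CommRingCat.of k)
  obtain ⟨E, hE, hEc⟩ := PicGrp.exists_eq_cls (pc (pullback.fst f (T₀ k).hom) c)
  have hok : (ModFun.PicDeg f 0).ok (T₀ k) E := PicRep20.ok_of_class f hdim 0 hE fun t => by
    show PicTan20.degCl f (T₀ k) t (PicGrp.cls E hE).1 = 0
    rw [← hEc]
    exact hc t
  have hcl : cl₀ hdim E hok = c := by
    show PicGrp.pullHom (rho k C) (M2.pullMul _) (PicGrp.cls E hE) = c
    rw [← hEc]
    show pc (rho k C) (pc (pullback.fst f (T₀ k).hom) c) = c
    rw [pc_comp _ _ (show rho k C ≫ pullback.fst f (T₀ k).hom = 𝟙 C from pullback.lift_fst _ _ _), pc_id]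
  exact ⟨_, (iota_app hdim J ψ hJ hok).trans hcl⟩

omit [GeometricallyConnected (C ↘ Spec (CommRingCat.of k))]
  [GeometricallyIrreducible (C ↘ Spec (CommRingCat.of k))]

variable (k) in
include k in
/-- The Picard group of a smooth proper curve is finite modulo `n`-th powers. -/
theorem exists_finset_pic_mod {n : ℕ} (hn : 0 < n) :
    ∃ T : Finset (PicLoc.PicSet C), ∀ c : PicLoc.PicSet C, ∃ t ∈ T, ∃ b, t * b ^ n = c := by
  let f := C ↘ Spec (CommRingCat.of k)
  haveI : GeometricallyConnected f := AlgClosedExt25.geometricallyConnected_of_connected f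
  haveI : GeometricallyIrreducible f := GrpField.geometricallyIrreducible_of_isAlgClosed f
  haveI : JacobsonSpace C := LocallyOfFiniteType.jacobsonSpace f
  obtain ⟨z, hz⟩ : (closedPoints C).Nonempty := by
    rw [← Set.univ_inter (closedPoints C)]
    exact nonempty_inter_closedPoints Set.univ_nonempty isClosed_univ.isLocallyClosed
  obtain ⟨J, gJ, cJ, ψ, j, hJ, -⟩ := exists_jacobian_pair (C := C) hdim (pointOfClosedPoint f z hz)
    (pointOfClosedPoint_comp f z hz)
  obtain ⟨hp, -, hgi⟩ := jacobian_props hdim _ (pointOfClosedPoint_comp f z hz) hJ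
  haveI := hp
  haveI := hgi
  let t₀ : (T₀ k).left := IsLocalRing.closedPoint k
  refine finite_mod_of_degree (fun c => PicTan20.degCl f (T₀ k) t₀ (pc (pullback.fst f (T₀ k).hom) c).1)
    (fun a b => by rw [map_mul]; exact PicTan20.degCl_mul f (PicRep20.fiber_dim f hdim) t₀ _ _) hn fun c hc => ?_
  obtain ⟨a, ha⟩ := exists_iota_of_deg hdim J ψ hJ c fun t => by
    rw [show t = t₀ from Subsingleton.elim (α := Spec (CommRingCat.of k)) _ _]
    exact hc
  obtain ⟨b, hb⟩ := exists_pow_eq J hn a
  exact ⟨iota hdim J ψ hJ b, by rw [← map_pow, hb, ha]⟩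

end Groth.Agent.CurveFin32
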